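import Mathlib
import Groth.Agent.FlatCrit65.Basic

set_option autoImplicit false
universe u
open TensorProduct Groth.Agent.FlatCrit65

namespace Groth.Agent.FlatNil3

variable {R : Type u} [CommRing R] {M : Type u} [AddCommGroup M] [Module R M] {I : Ideal R}

theorem flat_quotient_of_torTriv {J : Ideal R} (h : TorTriv J M) :
    Module.Flat (R ⧸ J) ((R ⧸ J) ⊗[R] M) := by
  rw [Module.Flat.iff_rTensor_injective']
  intro K
  have hK : J • (⊤ : Submodule R (R ⧸ J)) ≤ K.restrictScalars R := by
    refine Submodule.smul_le.mpr fun a ha x _ => ?_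
    obtain ⟨x, rfl⟩ := Ideal.Quotient.mk_surjective x
    show a • Ideal.Quotient.mk J x ∈ K
    have : a • Ideal.Quotient.mk J x = 0 :=
      Ideal.Quotient.eq_zero_iff_mem.mpr (J.mul_mem_right x ha)
    rw [this]; exact zero_mem _
  have h1 := h (R ⧸ J) (K.restrictScalars R) hK
  rw [LinearMap.lTensor_inj_iff_rTensor_inj] at h1
  let e := AlgebraTensorModule.cancelBaseChange R (R ⧸ J) (R ⧸ J) K M
  let e' := AlgebraTensorModule.cancelBaseChange R (R ⧸ J) (R ⧸ J) (R ⧸ J) M
  have key : ∀ z, e' (K.subtype.rTensor _ z) = (K.subtype.restrictScalars R).rTensor M (e z) := by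
    intro z
    induction z using TensorProduct.induction_on with
    | zero => simp
    | add a b ha hb => simp [map_add, ha, hb]
    | tmul k y =>
      induction y using TensorProduct.induction_on with
      | zero => simp
      | add a b ha hb =>
        rw [tmul_add, map_add, map_add, ha, hb]
        simp only [map_add]
      | tmul a m => simp [e, e', mul_comm]
  intro a b hab
  refine e.injective (h1 ?_)
  show (K.subtype.restrictScalars R).rTensor M (e a) = (K.subtype.restrictScalars R).rTensor M (e b)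
  rw [← key, ← key, hab]

/-- Families which are bases modulo a nilpotent ideal. -/
theorem basis_of_mod (hI : IsNilpotent I) (htor : Function.Injective (I.subtype.lTensor M))
    {A : Type u} (x : A → M)
    (hli : LinearIndependent (R ⧸ I) fun a => (1 : R ⧸ I) ⊗ₜ[R] x a)
    (hsp : Submodule.span (R ⧸ I) (Set.range fun a => (1 : R ⧸ I) ⊗ₜ[R] x a) = ⊤) :
    LinearIndependent R x ∧ Submodule.span R (Set.range x) = ⊤ := by
  obtain ⟨N, hN⟩ := hI
  let φ : (A →₀ R) →ₗ[R] M := Finsupp.linearCombination R x
  have hone : ∀ y, (1 : R ⧸ I) ⊗ₜ[R] y = 0 ↔ y ∈ I • (⊤ : Submodule R M) := fun y => by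
    rw [← (TensorProduct.quotTensorEquivQuotSMul M I).map_eq_zero_iff,
      TensorProduct.quotTensorEquivQuotSMul_mk_one_tmul, Submodule.Quotient.mk_eq_zero]
  have hφ : ∀ c : A →₀ R, (1 : R ⧸ I) ⊗ₜ[R] φ c = Finsupp.linearCombination (R ⧸ I)
      (fun a => (1 : R ⧸ I) ⊗ₜ[R] x a) (c.mapRange (Ideal.Quotient.mk I) (map_zero _)) := by
    intro c
    induction c using Finsupp.induction_linear with
    | zero => simp
    | add f g hf hg =>
      rw [map_add, tmul_add, hf, hg, Finsupp.mapRange_add (fun _ _ => map_add _ _ _), map_add]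
    | single a r =>
      simp only [φ, Finsupp.linearCombination_single, Finsupp.mapRange_single]
      rw [tmul_smul, ← algebraMap_smul (R ⧸ I) r]
      rfl
  have hsur : ∀ n, (⊤ : Submodule R M) ≤ LinearMap.range φ ⊔ I ^ n • ⊤ := by
    have h1 : (⊤ : Submodule R M) ≤ LinearMap.range φ ⊔ I • ⊤ := by
      intro y _
      have hy : (1 : R ⧸ I) ⊗ₜ[R] y ∈ Submodule.span (R ⧸ I) (Set.range fun a => (1 : R ⧸ I) ⊗ₜ[R] x a) :=
        hsp ▸ Submodule.mem_top
      obtain ⟨c, hc⟩ := Finsupp.mem_span_range_iff_exists_finsupp.mp hy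
      obtain ⟨c', rfl⟩ := Finsupp.mapRange_surjective (Ideal.Quotient.mk I) (map_zero _)
        Ideal.Quotient.mk_surjective c
      have h2 : y - φ c' ∈ I • (⊤ : Submodule R M) := by
        rw [← hone, tmul_sub, hφ, Finsupp.linearCombination_apply, hc, sub_self]
      exact Submodule.mem_sup.mpr ⟨φ c', ⟨c', rfl⟩, y - φ c', h2, add_sub_cancel _ _⟩
    intro n
    induction n with
    | zero => simp
    | succ n ih =>
      refine ih.trans (sup_le le_sup_left ?_)
      rw [pow_succ, Submodule.mul_smul]
      refine le_trans (Submodule.smul_mono le_rfl h1) ?_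
      rw [Submodule.smul_sup]
      exact sup_le_sup (Submodule.smul_le_right) le_rfl
  have hspan : LinearMap.range φ = ⊤ := top_unique (by
    have h := hsur N
    rw [hN] at h
    simpa using h)
  refine ⟨?_, by rw [← Finsupp.range_linearCombination]; exact hspan⟩
  rw [linearIndependent_iff]
  let K := LinearMap.ker φ
  have hKI : ∀ k ∈ K, k ∈ I • (⊤ : Submodule R (A →₀ R)) := by
    intro k hk
    have h0 := hφ k
    rw [LinearMap.mem_ker.mp hk, tmul_zero, eq_comm] at h0
    have h1 := linearIndependent_iff.mp hli _ h0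
    rw [← k.sum_single]
    refine Submodule.sum_mem _ fun a _ => ?_
    have ha : k a ∈ I := Ideal.Quotient.eq_zero_iff_mem.mp
      ((Finsupp.mapRange_apply (hf := map_zero (Ideal.Quotient.mk I))).symm.trans (DFunLike.congr_fun h1 a))
    show Finsupp.single a (k a) ∈ _
    rw [← mul_one (k a), ← smul_eq_mul, ← Finsupp.smul_single]
    exact Submodule.smul_mem_smul ha Submodule.mem_top
  have hK : ∀ n, K ≤ I ^ n • K := by
    have h1 : K ≤ I • K := by
      intro k hk
      let μ : ∀ (V : Type u) [AddCommGroup V] [Module R V], V ⊗[R] I →ₗ[R] V := fun V _ _ =>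
        (TensorProduct.rid R V).toLinearMap ∘ₗ I.subtype.lTensor V
      obtain ⟨z, hz⟩ : ∃ z, μ (A →₀ R) z = k :=
        Submodule.smul_induction_on (hKI k hk) (fun c hc w _ => ⟨w ⊗ₜ ⟨c, hc⟩, by simp [μ]⟩)
          fun a b ⟨za, ha⟩ ⟨zb, hb⟩ => ⟨za + zb, by rw [map_add, ha, hb]⟩
      have hz0 : μ M (φ.rTensor I z) = φ k := by
        rw [← hz]
        clear hz
        induction z using TensorProduct.induction_on with
        | zero => simp
        | add a b ha hb => simp [map_add, ha, hb]
        | tmul a b => simp [μ]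
      rw [LinearMap.mem_ker.mp hk] at hz0
      have hz1 : φ.rTensor I z = 0 := ((TensorProduct.rid R M).injective.comp htor) (by simpa [μ] using hz0)
      have hex : Function.Exact K.subtype φ := LinearMap.exact_subtype_ker_map φ
      obtain ⟨w, rfl⟩ := (@rTensor_exact R K (A →₀ R) M _ (Submodule.addCommGroup _) _ _ _ _ _
        K.subtype φ I _ _ hex (LinearMap.range_eq_top.mp hspan) z).mp hz1
      rw [← hz]
      clear hz hz0 hz1
      induction w using TensorProduct.induction_on with
      | zero => simp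
      | add a b ha hb => rw [map_add, map_add]; exact add_mem ha hb
      | tmul a b => simpa [μ] using Submodule.smul_mem_smul b.2 a.2
    intro n
    induction n with
    | zero => simp
    | succ n ih =>
      rw [pow_succ, Submodule.mul_smul]
      exact ih.trans (Submodule.smul_mono le_rfl h1)
  intro l hl
  have := hK N (show l ∈ K from hl)
  rw [hN] at this
  simpa using this

/-- The square-zero step of descent of flatness along an injection. -/
theorem flat_of_sq_zero {R' : Type u} [CommRing R'] [Algebra R R']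
    (hinj : Function.Injective (algebraMap R R')) (hI : I ^ 2 = ⊥)
    (h2 : Module.Flat (R ⧸ I) ((R ⧸ I) ⊗[R] M)) [Module.Flat R' (R' ⊗[R] M)] : Module.Flat R M := by
  refine flat_of_injective_of_isNilpotent ⟨2, hI⟩ ?_ h2
  let J := I.map (algebraMap R R')
  let ι : I →ₗ[R] J :=
    { toFun := fun a => ⟨algebraMap R R' a, Ideal.mem_map_of_mem _ a.2⟩
      map_add' := fun a b => Subtype.ext (map_add (algebraMap R R') _ _)
      map_smul' := fun r a => Subtype.ext (by simp [Algebra.smul_def]) }
  have hI' : Module.IsTorsionBySet R I I := fun a c => Subtype.ext (by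
    show (c : R) * (a : R) = 0
    have : (c : R) * a ∈ I ^ 2 := by rw [pow_two]; exact Ideal.mul_mem_mul c.2 a.2
    rwa [hI, Ideal.mem_bot] at this)
  have hJ : Module.IsTorsionBySet R J I := fun a c => Subtype.ext (by
    show (c : R) • (a : R') = 0
    rw [Algebra.smul_def]
    have : algebraMap R R' c * a ∈ (I ^ 2).map (algebraMap R R') := by
      rw [Ideal.map_pow, pow_two]; exact Ideal.mul_mem_mul (Ideal.mem_map_of_mem _ c.2) a.2
    rwa [hI, Ideal.map_bot, Ideal.mem_bot] at this)
  have h3 : Function.Injective (ι.lTensor M) := lTensor_injective_of_killed h2 hI' hJ ι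
    fun a b h => Subtype.ext (hinj (congrArg Subtype.val h))
  have h4 : Function.Injective ((J.subtype.restrictScalars R).lTensor M) :=
    lTensor_injective_of_flat_baseChange R' J.subtype J.injective_subtype
  have h5 : ((Algebra.linearMap R R').lTensor M) ∘ (I.subtype.lTensor M) =
      ((J.subtype.restrictScalars R).lTensor M) ∘ (ι.lTensor M) := by
    rw [← LinearMap.coe_comp, ← LinearMap.coe_comp, ← LinearMap.lTensor_comp, ← LinearMap.lTensor_comp]
    rfl
  exact (h5 ▸ h4.comp h3).of_comp

/-- `M/I₂M` is flat over `R/I₂` for `I₂` the preimage of `I² R'`. -/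
theorem flat_quotient_comap {R' : Type u} [CommRing R'] [Algebra R R'] (I : Ideal R)
    [Module.Flat (R ⧸ I) ((R ⧸ I) ⊗[R] M)] [Module.Flat R' (R' ⊗[R] M)] :
    Module.Flat (R ⧸ ((I ^ 2).map (algebraMap R R')).comap (algebraMap R R'))
      ((R ⧸ ((I ^ 2).map (algebraMap R R')).comap (algebraMap R R')) ⊗[R] M) := by
  set J' := (I ^ 2).map (algebraMap R R')
  set I₂ := J'.comap (algebraMap R R') with hI₂
  let Q := R ⧸ I₂
  let Ī := I.map (Ideal.Quotient.mk I₂)
  let T := R' ⧸ J'
  letI : Algebra Q T := (Ideal.quotientMap J' (algebraMap R R') le_rfl).toAlgebra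
  haveI : IsScalarTower R Q T := IsScalarTower.of_algebraMap_eq fun _ => rfl
  have hinj : Function.Injective (algebraMap Q T) := Ideal.quotientMap_injective
  have hsq : Ī ^ 2 = ⊥ := by
    rw [← Ideal.map_pow, Ideal.map_eq_bot_iff_le_ker, Ideal.mk_ker]
    exact Ideal.le_comap_map
  haveI : Module.Flat T (T ⊗[Q] (Q ⊗[R] M)) := by
    haveI : Module.Flat T (T ⊗[R'] (R' ⊗[R] M)) := inferInstance
    exact Module.Flat.of_linearEquiv ((AlgebraTensorModule.cancelBaseChange R Q T T M).trans
      (AlgebraTensorModule.cancelBaseChange R R' T T M).symm)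
  letI : Algebra (R ⧸ I) (Q ⧸ Ī) := (Ideal.quotientMap Ī (Ideal.Quotient.mk I₂) Ideal.le_comap_map).toAlgebra
  haveI : IsScalarTower R (R ⧸ I) (Q ⧸ Ī) := IsScalarTower.of_algebraMap_eq fun _ => rfl
  refine flat_of_sq_zero hinj hsq ?_
  exact Module.Flat.of_linearEquiv ((AlgebraTensorModule.cancelBaseChange R Q (Q ⧸ Ī) (Q ⧸ Ī) M).trans
    (AlgebraTensorModule.cancelBaseChange R (R ⧸ I) (Q ⧸ Ī) (Q ⧸ Ī) M).symm)

/-- Descent of flatness along an injection modulo a nilpotent ideal. -/
theorem flat_of_nilpotent {R' : Type u} [CommRing R'] [Algebra R R']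
    (hinj : Function.Injective (algebraMap R R')) [Module.Flat R' (R' ⊗[R] M)] :
    ∀ (k : ℕ) (I : Ideal R), I ^ (2 ^ k) = ⊥ → Module.Flat (R ⧸ I) ((R ⧸ I) ⊗[R] M) →
      Module.Flat R M
  | 0, I, h, h2 => by
    rw [pow_zero, pow_one] at h
    exact flat_of_sq_zero hinj (by rw [h]; simp [pow_two]) h2
  | k + 1, I, h, h2 => by
    set J' := (I ^ 2).map (algebraMap R R')
    refine flat_of_nilpotent hinj k (J'.comap (algebraMap R R')) ?_ (flat_quotient_comap I)
    rw [eq_bot_iff]
    intro x hx
    have h3 := Ideal.mem_map_of_mem (algebraMap R R') hx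
    rw [Ideal.map_pow] at h3
    have h4 := Ideal.pow_right_mono (Ideal.map_comap_le (f := algebraMap R R') (K := J')) (2 ^ k) h3
    rw [← Ideal.map_pow, ← pow_mul, ← pow_succ', h, Ideal.map_bot, Ideal.mem_bot] at h4
    exact Ideal.mem_bot.mpr ((map_eq_zero_iff _ hinj).mp h4)

end Groth.Agent.FlatNil3
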